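import Cfsg.Agent.Lib.Chevalley.CT.Recognition

/-!
# The recognition theorem into a group without centre, with the images of the root elements

And a homomorphism on the join of two commuting subgroups.
-/

set_option autoImplicit false

namespace Cfsg.Agent.FFourLocal.Id

open Cfsg.Lie Cfsg.Agent.Chevalley Cfsg.Agent.Chevalley.Table Cfsg.Agent.Chevalley.Check
  Cfsg.Agent.Chevalley.Cert Cfsg.Agent.Chevalley.Group Cfsg.Agent.Chevalley.Unip
  Cfsg.Agent.Chevalley.Borel Cfsg.Agent.Chevalley.Coef Cfsg.Agent.Chevalley.CT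

universe u

/-- Coherent homomorphisms into a group without centre come from the Chevalley group. -/
theorem exists_hom {D : ChevalleyDatum} {F : Type*} [Field F] {T : Tab} {H : Type u} [Group H]
    (hC : Certified D T) (hCT : CTCerts T) (hT : StKernel.HasCerts T)
    {φ : ∀ i : ℕ, ↥(RankOne D F i) →* H} (hφ : Coherent φ)
    (hgen : ⨆ (i : ℕ) (_ : i < D.rank), (φ i).range = ⊤) (hZ : Subgroup.center H = ⊥) :
    ∃ f : ↥(D.group F) →* H, Function.Surjective f ∧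
      ∀ i < D.rank, ∀ (g : GL D.Idx F) (hg : g ∈ RankOne D F i),
        ∃ h : g ∈ D.group F, f ⟨g, h⟩ = φ i ⟨g, hg⟩ := by
  obtain ⟨N, hN⟩ := hCT.key.coef
  obtain ⟨S, hS⟩ : ∃ S : CSys hC F (GL D.Idx F × H), S = recSys hφ hC hN := ⟨_, rfl⟩
  have hSX : S.X = recX φ hC := by rw [hS]; rfl
  have hSth : S.th = MonoidHom.fst _ _ := by rw [hS]; rfl
  let SS := allSys S hCT.key hCT.word
  let π : allGen S →* H := (MonoidHom.snd _ _).comp (allGen S).subtype
  have key : ∀ i < D.rank, ∀ (g : GL D.Idx F) (hg : g ∈ RankOne D F i),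
      (g, φ i ⟨g, hg⟩) ∈ allGen S := by
    intro i hi x hx
    have hgr : ∀ r, (r = D.simple i ∨ r = D.neg (D.simple i)) → ∀ t : F,
        ∃ h : xg hC r t ∈ RankOne D F i, (xg hC r t, φ i ⟨xg hC r t, h⟩) ∈ allGen S := by
      intro r hr t
      obtain ⟨hm, e⟩ := recX_simple (G := H) hφ hC hi hr t
      have hlow : Low D r := by
        rcases hr with rfl | rfl
        exacts [low_simple hC hi, (low_simple hC hi).neg hC]
      refine ⟨hm, Subgroup.subset_closure ⟨r, t, hlow.lt, ?_⟩⟩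
      rw [Xf_low S hCT.key hlow, hSX, e]
    have hle : RankOne D F i ≤
        ((allGen S).comap ((RankOne D F i).subtype.prod (φ i))).map (RankOne D F i).subtype := by
      refine sup_le ?_ ?_
      · intro z hz
        obtain ⟨t, rfl⟩ := (mem_rootSubgroup hC).1 hz
        obtain ⟨h, hy⟩ := hgr _ (Or.inl rfl) t
        exact ⟨⟨_, h⟩, hy, rfl⟩
      · intro z hz
        obtain ⟨t, rfl⟩ := (mem_rootSubgroup hC).1 hz
        obtain ⟨h, hy⟩ := hgr _ (Or.inr rfl) t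
        exact ⟨⟨_, h⟩, hy, rfl⟩
    obtain ⟨z, hz, rfl⟩ := hle hx
    exact hz
  have hπ : Function.Surjective π := by
    rw [← MonoidHom.range_eq_top, eq_top_iff, ← hgen]
    refine iSup₂_le fun i hi => ?_
    rintro _ ⟨⟨g, hg⟩, rfl⟩
    exact ⟨⟨_, key i hi g hg⟩, rfl⟩
  have hker : SS.th.ker ≤ π.ker := by
    intro z hz
    have hz' := StKernel.ker_le_center SS hT hz
    rw [MonoidHom.mem_ker, ← Subgroup.mem_bot, ← hZ, Subgroup.mem_center_iff]
    intro y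
    obtain ⟨w, rfl⟩ := hπ y
    rw [← map_mul, ← map_mul, Subgroup.mem_center_iff.1 hz' w]
  let e := (QuotientGroup.quotientKerEquivRange SS.th).trans
    (MulEquiv.subgroupCongr (StKernel.th_range SS))
  let f : D.group F →* H := (QuotientGroup.lift SS.th.ker π hker).comp e.symm.toMonoidHom
  refine ⟨f, (QuotientGroup.lift_surjective_of_surjective SS.th.ker π hπ hker).comp e.symm.surjective,
    fun i hi g hg => ?_⟩
  have hth : SS.th ⟨_, key i hi g hg⟩ = g := by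
    show S.th (g, φ i ⟨g, hg⟩) = g
    rw [hSth]
    rfl
  have hG : g ∈ D.group F := by
    rw [← StKernel.th_range SS]
    exact ⟨_, hth⟩
  refine ⟨hG, ?_⟩
  have he : e (QuotientGroup.mk ⟨_, key i hi g hg⟩) = ⟨g, hG⟩ := Subtype.ext hth
  show QuotientGroup.lift SS.th.ker π hker (e.symm ⟨g, hG⟩) = φ i ⟨g, hg⟩
  rw [← he, MulEquiv.symm_apply_apply]
  rfl

/-- Two commuting subgroups with commuting images: a common extension. -/
theorem exists_sup_hom {A : Type*} [Group A] {H : Type u} [Group H] {K L : Subgroup A}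
    (hKL : ∀ k ∈ K, ∀ l ∈ L, Commute k l) (α : ↥K →* H) (β : ↥L →* H)
    (hαβ : ∀ k l, Commute (α k) (β l))
    (hkl : ∀ (x : A) (hk : x ∈ K) (hl : x ∈ L), α ⟨x, hk⟩ = 1 ∧ β ⟨x, hl⟩ = 1) :
    ∃ Φ : ↥(K ⊔ L) →* H, (∀ g (hg : g ∈ K), Φ ⟨g, Subgroup.mem_sup_left hg⟩ = α ⟨g, hg⟩) ∧
      ∀ g (hg : g ∈ L), Φ ⟨g, Subgroup.mem_sup_right hg⟩ = β ⟨g, hg⟩ := by
  let ψ : ↥K × ↥L →* A := K.subtype.noncommCoprod L.subtype fun k l => hKL k k.2 l l.2
  let θ : ↥K × ↥L →* H := α.noncommCoprod β hαβ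
  have hker : ψ.ker ≤ θ.ker := by
    rintro ⟨⟨k, hk⟩, ⟨l, hl⟩⟩ h
    have h' : k * l = 1 := h
    obtain rfl : l = k⁻¹ := (inv_eq_of_mul_eq_one_right h').symm
    have hk' : k ∈ L := inv_inv k ▸ inv_mem hl
    show α ⟨k, hk⟩ * β ⟨k⁻¹, hl⟩ = 1
    rw [(hkl k hk hk').1, one_mul, show (⟨k⁻¹, hl⟩ : ↥L) = (⟨k, hk'⟩ : ↥L)⁻¹ from rfl, map_inv,
      (hkl k hk hk').2, inv_one]
  have hrange : K ⊔ L ≤ ψ.range := by
    refine sup_le (fun k hk => ⟨(⟨k, hk⟩, 1), ?_⟩) fun l hl => ⟨(1, ⟨l, hl⟩), ?_⟩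
    · show k * 1 = k
      exact mul_one k
    · show 1 * l = l
      exact one_mul l
  let e := QuotientGroup.quotientKerEquivRange ψ
  let Φ : ↥(K ⊔ L) →* H :=
    ((QuotientGroup.lift ψ.ker θ hker).comp e.symm.toMonoidHom).comp (Subgroup.inclusion hrange)
  have hval : ∀ (p : ↥K × ↥L) (h : ψ p ∈ K ⊔ L), Φ ⟨ψ p, h⟩ = θ p := by
    intro p h
    have he : e (QuotientGroup.mk p) = ⟨ψ p, hrange h⟩ := Subtype.ext rfl
    show QuotientGroup.lift ψ.ker θ hker (e.symm ⟨ψ p, hrange h⟩) = θ p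
    rw [← he, MulEquiv.symm_apply_apply]
    rfl
  refine ⟨Φ, fun g hg => ?_, fun g hg => ?_⟩
  · have e1 : ψ (⟨g, hg⟩, 1) = g := mul_one g
    have h := hval (⟨g, hg⟩, 1) (e1.symm ▸ Subgroup.mem_sup_left hg)
    simp only [e1] at h
    rw [h]
    show α ⟨g, hg⟩ * β 1 = α ⟨g, hg⟩
    rw [map_one, mul_one]
  · have e1 : ψ (1, ⟨g, hg⟩) = g := one_mul g
    have h := hval (1, ⟨g, hg⟩) (e1.symm ▸ Subgroup.mem_sup_right hg)
    simp only [e1] at h
    rw [h]
    show α 1 * β ⟨g, hg⟩ = β ⟨g, hg⟩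
    rw [map_one, one_mul]

end Cfsg.Agent.FFourLocal.Id
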