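import Cfsg.Prelude.Def_ClassicalGeometry
import Cfsg.Agent.Lib.Chevalley.CT.Recognition
import Cfsg.Agent.Lib.Chevalley.Types.F4
import Mathlib.Tactic

/-!
# The Levi subgroups of type `C₃` and `B₃` of `F₄(2)` on their natural six-dimensional sections

The short roots `29, 36, 38, 39, 40, 44` of height one in the fourth simple root carry the natural module of
the Levi subgroup of the nodes `0, 1, 2`; the long roots `41, 42, 43, 45, 46, 47` over the short root `44`
carry that of the nodes `1, 2, 3`.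
-/

set_option autoImplicit false
set_option maxRecDepth 100000

open scoped Matrix

namespace Cfsg.Agent.FFourLocal.Id

open Cfsg.Lie Cfsg.Agent.Chevalley Cfsg.Agent.Chevalley.Cert Cfsg.Agent.Chevalley.Group

/-- The field with two elements. -/
abbrev K₂ : Type := ZMod 2

abbrev hC : Certified chevF4 Data.F4.tab := Types.F4.certified

/-- A root element of `F₄(2)`. -/
noncomputable abbrev X (r : ℕ) : GL chevF4.Idx K₂ := xg hC r (1 : K₂)

local instance (priority := high) : BEq chevF4.Idx := instBEqOfDecidableEq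

/-- The coordinate of a root. -/
abbrev rootIdx (n : ℕ) (h : n < chevF4.nroots := by decide +kernel) : chevF4.Idx := Sum.inr ⟨n, h⟩

/-- A flag section of the adjoint module with six coordinates. -/
structure Flag where
  idx : Fin 3 ⊕ Fin 3 → chevF4.Idx
  low : List chevF4.Idx
  idx_inj : Function.Injective idx
  idx_low : ∀ i, idx i ∉ low

namespace Flag

variable (P : Flag)

/-- Preservation of the flag. -/
def Keeps (A : Matrix chevF4.Idx chevF4.Idx K₂) : Prop :=
  (∀ j r, (∀ i, r ≠ P.idx i) → r ∉ P.low → A r (P.idx j) = 0) ∧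
    ∀ c ∈ P.low, ∀ r, r ∉ P.low → A r c = 0

/-- The section. -/
def block (A : Matrix chevF4.Idx chevF4.Idx K₂) : Matrix (Fin 3 ⊕ Fin 3) (Fin 3 ⊕ Fin 3) K₂ :=
  A.submatrix P.idx P.idx

theorem keeps_one : P.Keeps 1 :=
  ⟨fun _ _ h _ => Matrix.one_apply_ne (h _), fun c hc r hr =>
    Matrix.one_apply_ne fun e => hr (e ▸ hc)⟩

theorem block_one : P.block 1 = 1 := Matrix.submatrix_one _ P.idx_inj

theorem keeps_mul {A B : Matrix chevF4.Idx chevF4.Idx K₂} (hA : P.Keeps A) (hB : P.Keeps B) :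
    P.Keeps (A * B) := by
  refine ⟨fun j r h1 h2 => ?_, fun c hc r hr => ?_⟩
  · rw [Matrix.mul_apply]
    refine Finset.sum_eq_zero fun k _ => ?_
    by_cases hk : k ∈ P.low
    · rw [hA.2 k hk r h2, zero_mul]
    · by_cases hk' : ∃ i, k = P.idx i
      · obtain ⟨i, rfl⟩ := hk'
        rw [hA.1 i r h1 h2, zero_mul]
      · rw [hB.1 j k (fun i e => hk' ⟨i, e⟩) hk, mul_zero]
  · rw [Matrix.mul_apply]
    refine Finset.sum_eq_zero fun k _ => ?_
    by_cases hk : k ∈ P.low
    · rw [hA.2 k hk r hr, zero_mul]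
    · rw [hB.2 c hc k hk, mul_zero]

theorem block_mul {A B : Matrix chevF4.Idx chevF4.Idx K₂} (hA : P.Keeps A) (hB : P.Keeps B) :
    P.block (A * B) = P.block A * P.block B := by
  ext i j
  rw [block, Matrix.submatrix_apply, Matrix.mul_apply, Matrix.mul_apply]
  rw [← Finset.sum_subset (Finset.subset_univ (Finset.univ.map ⟨P.idx, P.idx_inj⟩))]
  · rw [Finset.sum_map]
    rfl
  · intro k _ hk
    rw [Finset.mem_map] at hk
    push Not at hk
    by_cases hk' : k ∈ P.low
    · rw [hA.2 k hk' _ (P.idx_low i), zero_mul]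
    · rw [hB.1 j k (fun i e => hk i (Finset.mem_univ _) e.symm) hk', mul_zero]

/-- The elements keeping the flag whose section is symplectic. -/
def Good (A : Matrix chevF4.Idx chevF4.Idx K₂) : Prop :=
  P.Keeps A ∧ P.block A ∈ Matrix.symplecticGroup (Fin 3) K₂

theorem good_one : P.Good 1 := ⟨P.keeps_one, P.block_one ▸ one_mem _⟩

theorem good_mul {A B : Matrix chevF4.Idx chevF4.Idx K₂} (hA : P.Good A) (hB : P.Good B) :
    P.Good (A * B) := ⟨P.keeps_mul hA.1 hB.1, P.block_mul hA.1 hB.1 ▸ mul_mem hA.2 hB.2⟩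

/-- The units whose two matrices are good. -/
def goodUnits : Subgroup (GL chevF4.Idx K₂) where
  carrier := {g | P.Good g.1 ∧ P.Good (g⁻¹).1}
  one_mem' := by
    refine ⟨P.good_one, ?_⟩
    rw [inv_one]
    exact P.good_one
  mul_mem' {a b} ha hb := by
    refine ⟨P.good_mul ha.1 hb.1, ?_⟩
    rw [mul_inv_rev]
    exact P.good_mul hb.2 ha.2
  inv_mem' {a} ha := ⟨ha.2, by rw [inv_inv]; exact ha.1⟩

/-- The section as a homomorphism. -/
def hom : ↥P.goodUnits →* Matrix.symplecticGroup (Fin 3) K₂ where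
  toFun g := ⟨P.block g.1.1, g.2.1.2⟩
  map_one' := Subtype.ext P.block_one
  map_mul' g h := Subtype.ext (P.block_mul g.2.1.1 h.2.1.1)

end Flag

/-- The section of the nodes `0, 1, 2`. -/
def flagC : Flag where
  idx := Sum.elim ![rootIdx 29, rootIdx 38, rootIdx 36] ![rootIdx 44, rootIdx 39, rootIdx 40]
  low := []
  idx_inj := by decide +kernel
  idx_low := by simp

/-- The section of the nodes `1, 2, 3`. -/
def flagB : Flag where
  idx := Sum.elim ![rootIdx 41, rootIdx 42, rootIdx 43] ![rootIdx 47, rootIdx 46, rootIdx 45]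
  low := [rootIdx 44]
  idx_inj := by decide +kernel
  idx_low := by decide +kernel

/-- Decidable form of the conditions on a root element. -/
def rootOk (P : Flag) (r : ℕ) : Prop :=
  (∀ j x, (∀ i, x ≠ P.idx i) → x ∉ P.low → chevF4.x K₂ r 1 x (P.idx j) = 0) ∧
    (∀ c ∈ P.low, ∀ x, x ∉ P.low → chevF4.x K₂ r 1 x c = 0) ∧
      P.block (chevF4.x K₂ r 1) * Matrix.J (Fin 3) K₂ * (P.block (chevF4.x K₂ r 1))ᵀ =
        Matrix.J (Fin 3) K₂

instance (P : Flag) (r : ℕ) : Decidable (rootOk P r) := by unfold rootOk; infer_instance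

theorem flagC_ok : ∀ r ∈ [33, 14, 27, 20, 25, 22], rootOk flagC r := by decide +kernel

theorem flagB_ok : ∀ r ∈ [27, 20, 25, 22, 24, 23], rootOk flagB r := by decide +kernel

theorem K₂_neg_one : (-1 : K₂) = 1 := by decide

theorem X_inv (r : ℕ) : (X r)⁻¹ = X r := by rw [X, xg_inv, K₂_neg_one]

theorem X_mem {P : Flag} {r : ℕ} (h : rootOk P r) : X r ∈ P.goodUnits := by
  have hg : P.Good (X r).1 := by
    rw [coe_xg]
    exact ⟨⟨h.1, h.2.1⟩, SymplecticGroup.mem_iff.2 h.2.2⟩
  refine ⟨hg, ?_⟩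
  rw [X_inv]
  exact hg

/-- The rank-one subgroup of a node. -/
abbrev R1 (i : ℕ) : Subgroup (GL chevF4.Idx K₂) := CT.RankOne chevF4 K₂ i

/-- The two root indices of a node. -/
def rts : ℕ → List ℕ
  | 0 => [33, 14]
  | 1 => [27, 20]
  | 2 => [25, 22]
  | _ => [24, 23]

theorem rootSubgroup_eq (r : ℕ) : chevF4.rootSubgroup K₂ r = Subgroup.zpowers (X r) := by
  refine le_antisymm ((Subgroup.closure_le _).2 ?_) (Subgroup.zpowers_le.2
    (Subgroup.subset_closure ⟨1, coe_xg hC _ _⟩))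
  rintro g ⟨t, hg⟩
  rw [eq_xg hC hg]
  rcases (show ∀ u : K₂, u = 0 ∨ u = 1 by decide) t with rfl | rfl
  · rw [xg_zero]
    exact one_mem _
  · exact Subgroup.mem_zpowers _

theorem R1_eq {i : ℕ} (hi : i < 4) :
    R1 i = Subgroup.zpowers (X ((rts i).headD 0)) ⊔ Subgroup.zpowers (X ((rts i).tail.headD 0)) := by
  rw [← rootSubgroup_eq, ← rootSubgroup_eq]
  interval_cases i <;> rfl

theorem R1_le {i : ℕ} (hi : i < 4) {H : Subgroup (GL chevF4.Idx K₂)}
    (h : ∀ r ∈ rts i, X r ∈ H) : R1 i ≤ H := by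
  rw [R1_eq hi]
  interval_cases i <;>
    exact sup_le (Subgroup.zpowers_le.2 (h _ (by simp [rts])))
      (Subgroup.zpowers_le.2 (h _ (by simp [rts])))

theorem R1_le_C {i : ℕ} (hi : i < 3) : R1 i ≤ flagC.goodUnits :=
  R1_le (by omega) fun r hr => X_mem (flagC_ok r (by interval_cases i <;> simp only [rts, List.mem_cons, List.not_mem_nil, or_false] at hr ⊢ <;> tauto))

theorem R1_le_B {i : ℕ} (hi : 0 < i) (hi' : i < 4) : R1 i ≤ flagB.goodUnits :=
  R1_le hi' fun r hr => X_mem (flagB_ok r (by interval_cases i <;> simp only [rts, List.mem_cons, List.not_mem_nil, or_false] at hr ⊢ <;> tauto))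

theorem X_mem_R1 {i r : ℕ} (hi : i < 4) (hr : r ∈ rts i) : X r ∈ R1 i := by
  rw [R1_eq hi]
  interval_cases i <;> simp only [rts, List.mem_cons, List.not_mem_nil, or_false] at hr <;>
    rcases hr with rfl | rfl <;>
    first
    | exact Subgroup.mem_sup_left (Subgroup.mem_zpowers _)
    | exact Subgroup.mem_sup_right (Subgroup.mem_zpowers _)

/-- The natural homomorphism of a rank-one subgroup of the nodes `0, 1, 2`. -/
noncomputable def natC {i : ℕ} (hi : i < 3) : ↥(R1 i) →* Matrix.symplecticGroup (Fin 3) K₂ :=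
  flagC.hom.comp (Subgroup.inclusion (R1_le_C hi))

/-- The natural homomorphism of a rank-one subgroup of the nodes `1, 2, 3`. -/
noncomputable def natB {i : ℕ} (hi : 0 < i) (hi' : i < 4) :
    ↥(R1 i) →* Matrix.symplecticGroup (Fin 3) K₂ :=
  flagB.hom.comp (Subgroup.inclusion (R1_le_B hi hi'))

/-- The image of a root element in the section of the nodes `0, 1, 2`. -/
noncomputable def xC (r : ℕ) (h : r ∈ [33, 14, 27, 20, 25, 22]) :
    Matrix.symplecticGroup (Fin 3) K₂ :=
  ⟨flagC.block (chevF4.x K₂ r 1), SymplecticGroup.mem_iff.2 (flagC_ok r h).2.2⟩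

/-- The image of a root element in the section of the nodes `1, 2, 3`. -/
noncomputable def xB (r : ℕ) (h : r ∈ [27, 20, 25, 22, 24, 23]) :
    Matrix.symplecticGroup (Fin 3) K₂ :=
  ⟨flagB.block (chevF4.x K₂ r 1), SymplecticGroup.mem_iff.2 (flagB_ok r h).2.2⟩

theorem homC_X (r : ℕ) (h : r ∈ [33, 14, 27, 20, 25, 22]) :
    flagC.hom ⟨X r, X_mem (flagC_ok r h)⟩ = xC r h :=
  Subtype.ext (by simp [Flag.hom, xC, coe_xg])

theorem homB_X (r : ℕ) (h : r ∈ [27, 20, 25, 22, 24, 23]) :
    flagB.hom ⟨X r, X_mem (flagB_ok r h)⟩ = xB r h :=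
  Subtype.ext (by simp [Flag.hom, xB, coe_xg])

end Cfsg.Agent.FFourLocal.Id
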